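import Groth.Agent.Lib.ResProp22.Relative
import Groth.Agent.Lib.FPQuot20.Main

/-! # Generated over preimages of affines: quotient of the pullback of a finitely presented module -/

set_option autoImplicit false
set_option linter.all false
set_option backward.isDefEq.respectTransparency false
set_option maxHeartbeats 1000000
universe u

open CategoryTheory CategoryTheory.Limits AlgebraicGeometry TopologicalSpace Opposite
open GrothLib.InvExt (mres)
open GrothLib.QCoh GrothLib.QCoh.SubData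
open GrothLib GrothLib.ResProp22

noncomputable section

namespace GrothLib.CounitLim8

variable {X Y : Scheme.{u}}

/-- A module generated over preimages is a quotient of the pullback of a finitely presented module. -/
theorem exists_fp_epi_pullback [CompactSpace Y] [QuasiSeparatedSpace Y]
    (f : X ⟶ Y) [QuasiCompact f] [QuasiSeparated f] (N : X.Modules) [N.IsQuasicoherent] (hN : FinSec N)
    {I : Type u} [Finite I] (V : I → Y.Opens) (hV : ∀ i, IsAffineOpen (V i)) (hcov : (⊤ : Y.Opens) ≤ ⨆ i, V i)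
    (h : ∀ i, Curv2.IsGloballyGenerated (N.restrict (f ⁻¹ᵁ V i).ι)) :
    ∃ (E : Y.Modules) (π : (Scheme.Modules.pullback f).obj E ⟶ N), CohB1.IsFP E ∧ Epi π := by
  classical
  have hgen : ∀ i, ∃ (k : ℕ) (s : Fin k → Γ(N.restrict (f ⁻¹ᵁ V i).ι, ⊤)), Ample.Spanned _ s := fun i => by
    haveI : CompactSpace (f ⁻¹ᵁ V i : X.Opens) := isCompact_iff_compactSpace.1
      (QuasiCompact.isCompact_preimage _ (V i).isOpen (hV i).isCompact)
    haveI : (N.restrict (f ⁻¹ᵁ V i).ι).IsQuasicoherent := by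
      haveI := FittSheaf.isQuasicoherent_pullback (f ⁻¹ᵁ V i).ι N
      exact QCoh.isQuasicoherent_of_iso ((Scheme.Modules.restrictFunctorIsoPullback _).app N).symm
    obtain ⟨ι, s, hs⟩ := CurveMult.spanned_of_isGloballyGenerated (h i)
    obtain ⟨k, t, ht⟩ := Ample.exists_finite_spanned _ (finSec_restrict _ hN) s hs
    exact ⟨k, _, ht⟩
  choose k s hs using hgen
  let G := (Scheme.Modules.pushforward f).obj N
  haveI : G.IsQuasicoherent := QCoh.isQuasicoherent_pushforward f N
  let σ : ∀ p : (Σ i, Fin (k i)), Γ(N, f ⁻¹ᵁ V p.1) := fun p =>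
    mres N (Scheme.Opens.ι_image_top (f ⁻¹ᵁ V p.1)).ge (s p.1 p.2)
  obtain ⟨Q, hQ, hσ⟩ := FTIdeals9.exists_locGen_family (F := G) (κ := ULift.{u} (Σ i, Fin (k i)))
    (fun p => V p.down.1) (fun p => (hV _).isCompact) (fun p => σ p.down)
  haveI := hQ.isQuasicoherent
  obtain ⟨E, q, hE, hq⟩ := FPQuot20.exists_epi_fp Q.obj hQ.isFiniteType
  let adj := Scheme.Modules.pullbackPushforwardAdjunction f
  let ψ : (Scheme.Modules.pullback f).obj Q.obj ⟶ N := (adj.homEquiv _ _).symm Q.ι
  haveI : Epi q := hq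
  haveI : Epi ψ := by
    refine ⟨fun {T} a b hab => ?_⟩
    have h' : Q.ι ≫ (Scheme.Modules.pushforward f).map a = Q.ι ≫ (Scheme.Modules.pushforward f).map b := by
      have h1 := congrArg (adj.homEquiv _ _) hab
      rw [Adjunction.homEquiv_naturality_right, Adjunction.homEquiv_naturality_right] at h1
      simpa only [ψ, Equiv.apply_symm_apply] using h1
    refine Scheme.Modules.hom_ext _ _ fun W => ?_
    ext (t : Γ(N, W))
    refine Ample.meq_of_cover _ (fun i : I => W ⊓ f ⁻¹ᵁ V i) (fun _ => inf_le_left)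
      (fun x hx => by
        obtain ⟨i, hi⟩ := Opens.mem_iSup.1 (hcov (show f x ∈ (⊤ : Y.Opens) from trivial))
        exact Opens.mem_iSup.2 ⟨i, hx, hi⟩) fun i => ?_
    rw [← Ample.app_mres, ← Ample.app_mres]
    have e : (Scheme.Modules.restrictFunctor (f ⁻¹ᵁ V i).ι).map a =
        (Scheme.Modules.restrictFunctor (f ⁻¹ᵁ V i).ι).map b :=
      hom_ext_of_spanned (hs i) _ _ fun j => by
        have h2 : a.app (f ⁻¹ᵁ V i) (σ ⟨i, j⟩) = b.app (f ⁻¹ᵁ V i) (σ ⟨i, j⟩) :=
          congrArg (fun k : Q.obj ⟶ (Scheme.Modules.pushforward f).obj T => k.app (V i)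
            (Q.lift _ (hσ ⟨⟨i, j⟩⟩))) h'
        have key : ∀ (W' : X.Opens) (hW' : W' = f ⁻¹ᵁ V i) (u : Γ(N, W')),
            a.app (f ⁻¹ᵁ V i) (mres N hW'.ge u) = b.app (f ⁻¹ᵁ V i) (mres N hW'.ge u) → a.app W' u = b.app W' u := by
          rintro W' rfl u hu
          rwa [InvExt.mres_self] at hu
        exact key _ (Scheme.Opens.ι_image_top _) (s i j) h2
    have key : ∀ (W' : X.Opens), (∃ W'', (f ⁻¹ᵁ V i).ι ''ᵁ W'' = W') → ∀ u : Γ(N, W'), a.app W' u = b.app W' u := by
      rintro _ ⟨W'', rfl⟩ u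
      exact congrArg (fun k : (Scheme.Modules.restrictFunctor (f ⁻¹ᵁ V i).ι).obj N ⟶
        (Scheme.Modules.restrictFunctor (f ⁻¹ᵁ V i).ι).obj T => k.app W'' u) e
    refine key _ ⟨(f ⁻¹ᵁ V i).ι ⁻¹ᵁ W, ?_⟩ _
    rw [Scheme.Hom.image_preimage_eq_opensRange_inf, Scheme.Opens.opensRange_ι, inf_comm]
  haveI : PreservesColimitsOfSize.{0, 0} (Scheme.Modules.pullback f) := preservesColimitsOfSize_shrink.{0, u, 0, u} _
  haveI : Epi ((Scheme.Modules.pullback f).map q) := inferInstance
  exact ⟨E, (Scheme.Modules.pullback f).map q ≫ ψ, hE, epi_comp _ _⟩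

end GrothLib.CounitLim8
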